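import Groth.Agent.InvExtFlat.Step
import Groth.Agent.LocCohDepth.Hartogs
import Groth.Agent.CurveDual.Depth
import Groth.Agent.QCoh.DevissageP
import Groth.Agent.PicClLib.Basic
import Groth.Agent.Pic13Lib.Bdd.Proper

/-!
# Invertible modules extend across depth two if they do so after a flat surjection
-/

set_option autoImplicit false
set_option backward.isDefEq.respectTransparency false
set_option backward.isDefEq.respectTransparency.types false
set_option linter.style.haveILetI false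
set_option maxHeartbeats 1000000

universe u

open CategoryTheory CategoryTheory.Limits AlgebraicGeometry TopologicalSpace Opposite
open scoped Groth.Agent.H23.PicMul

namespace Groth.Agent.InvExtFlat

open Groth.Agent Groth.Agent.InvX

/-- A frame of a restriction is a frame. -/
theorem isFrame_of_restrict {X Y : Scheme.{u}} (a : Y ⟶ X) [IsOpenImmersion a] {M : X.Modules} {O : Y.Opens}
    {e : Γ(M.restrict a, O)} (he : IsFrame e) : IsFrame (U := a ''ᵁ O) (show Γ(M, a ''ᵁ O) from e) := by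
  intro V hV
  obtain ⟨V', rfl⟩ : ∃ V', a ''ᵁ V' = V := ⟨a ⁻¹ᵁ V, by
    rw [Scheme.Hom.image_preimage_eq_opensRange_inf]
    exact inf_eq_right.mpr (hV.trans (Scheme.Hom.image_le_opensRange a O))⟩
  have hV' : V' ≤ O := (a.image_le_image_iff V' O).1 hV
  have key : (fun r : Γ(X, a ''ᵁ V') => r • AModX.res M hV (show Γ(M, a ''ᵁ O) from e)) =
      (fun s : Γ(Y, V') => (show Γ(M, a ''ᵁ V') from s • AModX.res (M.restrict a) hV' e)) ∘ (a.appIso V').hom := by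
    funext r
    show _ = (a.appIso V').inv.hom ((a.appIso V').hom r) • AModX.res M hV (show Γ(M, a ''ᵁ O) from e)
    rw [Iso.hom_inv_id_apply]
  rw [key]
  exact (he V' hV').comp ((ConcreteCategory.isIso_iff_bijective (a.appIso V').hom).1 inferInstance)

theorem image_preimage_ι {X : Scheme.{u}} (V W : X.Opens) : V.ι ''ᵁ (V.ι ⁻¹ᵁ W) = W ⊓ V := by
  rw [Scheme.Hom.image_preimage_eq_opensRange_inf, Scheme.Opens.opensRange_ι, inf_comm]

theorem map_bijective_of_eq {X : Scheme.{u}} {A B C : X.Opens} (h : B ≤ A) (h' : C ≤ A) (e : B = C)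
    (hb : Function.Bijective (X.presheaf.map (homOfLE h).op)) : Function.Bijective (X.presheaf.map (homOfLE h').op) := by
  subst e; exact hb

variable {X : Scheme.{u}} [IsLocallyNoetherian X] (V : X.Opens)
  (hV : ∀ x : X, x ∉ V → 2 ≤ LocCoh.depth (X.presheaf.stalk x) (X.presheaf.stalk x))

include hV in
theorem bijective_res (W : X.Opens) :
    Function.Bijective (X.presheaf.map (homOfLE (inf_le_left : W ⊓ V ≤ W)).op) :=
  LocCohDepth.bijective_res_of_depth V (E := Coh.structureModule X) QCoh.isCoh_structureModule'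
    (fun x hx => (hV x hx).trans_eq (CurveDual.depth_structure_eq x).symm) W

include hV in
theorem app_bijective (W : X.Opens) : Function.Bijective (V.ι.app W) := by
  have h := bijective_res V hV W
  rw [Scheme.Opens.ι_app]
  exact map_bijective_of_eq (inf_le_left : W ⊓ V ≤ W) _ (image_preimage_ι V W).symm h

include hV in
theorem isFrame_push {L : V.toScheme.Modules} {W : X.Opens} {e : Γ(L, V.ι ⁻¹ᵁ W)} (he : IsFrame e) :
    IsFrame (show Γ((Scheme.Modules.pushforward V.ι).obj L, W) from e) := fun W' h =>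
  (he (V.ι ⁻¹ᵁ W') (V.ι.preimage_mono h)).comp (app_bijective V hV W')

include hV in
theorem extends_of_flat {L : V.toScheme.Modules} (hL : PicF.IsInvertible L)
    (hloc : ∀ x : X, x ∉ V → ∃ (X' : Scheme.{u}) (φ : X' ⟶ X) (_ : Flat φ) (x' : X') (_ : φ x' = x)
      (M' : X'.Modules) (_ : PicF.IsInvertible M'),
        Nonempty ((Scheme.Modules.pullback (φ ⁻¹ᵁ V).ι).obj M' ≅ (Scheme.Modules.pullback (φ ∣_ V)).obj L)) :
    ∃ M : X.Modules, PicF.IsInvertible M ∧ Nonempty ((Scheme.Modules.pullback V.ι).obj M ≅ L) := by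
  let N := (Scheme.Modules.pushforward V.ι).obj L
  haveI : IsIso ((Scheme.Modules.restrictAdjunction V.ι).counit.app L) := inferInstance
  refine ⟨N, isInvertible_of_frames fun x => ?_,
    ⟨((Scheme.Modules.restrictFunctorIsoPullback V.ι).app N).symm ≪≫
      asIso ((Scheme.Modules.restrictAdjunction V.ι).counit.app L)⟩⟩
  suffices h : ∃ W : X.Opens, x ∈ W ∧ ∃ e : Γ(L, V.ι ⁻¹ᵁ W), IsFrame e by
    obtain ⟨W, hxW, e', he'⟩ := h
    exact ⟨W, hxW, _, isFrame_push V hV he'⟩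
  by_cases hxV : x ∈ V
  · obtain ⟨O, hO, e', he'⟩ := exists_frame hL ⟨x, hxV⟩
    exact ⟨V.ι ''ᵁ O, ⟨⟨x, hxV⟩, hO, rfl⟩, _, he'.res (le_of_eq (V.ι.preimage_image_eq O))⟩
  obtain ⟨X', φ, hφ, x', rfl, M', hM', ⟨e⟩⟩ := hloc x hxV
  obtain ⟨O, hxO, ⟨t⟩⟩ := hM' x'
  obtain ⟨W, hW, hxW, -⟩ := exists_isAffineOpen_mem_and_subset (x := φ x') (U := ⊤) trivial
  obtain ⟨W', hW', hxW', hW'le⟩ := exists_isAffineOpen_mem_and_subset (x := x') (U := φ ⁻¹ᵁ W ⊓ O) ⟨hxW, hxO⟩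
  have hle : W' ≤ φ ⁻¹ᵁ W := fun y hy => (hW'le hy).1
  have hleO : W' ≤ O := fun y hy => (hW'le hy).2
  haveI : IsAffine W.toScheme := hW
  haveI : IsAffine W'.toScheme := hW'
  haveI : IsLocallyNoetherian W.toScheme := isLocallyNoetherian_of_isOpenImmersion W.ι
  haveI : IsNoetherian W.toScheme := {}
  let ψ := φ.resLE W W' hle
  haveI : Flat ψ := inferInstance
  let a := W.ι ∣_ V
  let La := (Scheme.Modules.pullback a).obj L
  have hbij : Function.Bijective (W.ι ⁻¹ᵁ V).ι.appTop := by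
    have h := bijective_res V hV (W.ι ''ᵁ ⊤)
    rw [Scheme.Opens.ι_appTop, Scheme.Opens.toScheme_presheaf_map]
    refine map_bijective_of_eq (inf_le_left : W.ι ''ᵁ ⊤ ⊓ V ≤ W.ι ''ᵁ ⊤) _ ?_ h
    show _ = W.ι ''ᵁ ((W.ι ⁻¹ᵁ V).ι ''ᵁ _)
    simp only [Scheme.Opens.ι_image_top, image_preimage_ι, inf_comm]
  -- triviality upstairs
  let b : (ψ ⁻¹ᵁ (W.ι ⁻¹ᵁ V)).toScheme ⟶ (φ ⁻¹ᵁ V).toScheme := IsOpenImmersion.lift (φ ⁻¹ᵁ V).ι
    ((ψ ⁻¹ᵁ (W.ι ⁻¹ᵁ V)).ι ≫ W'.ι) (by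
      rintro _ ⟨z, rfl⟩
      rw [Scheme.Opens.range_ι]
      have hz : W.ι (ψ z.1) ∈ V := z.2
      show φ (W'.ι z.1) ∈ V
      rwa [← Scheme.Hom.comp_apply, ← Scheme.Hom.resLE_comp_ι φ hle, Scheme.Hom.comp_apply])
  have hb : b ≫ (φ ⁻¹ᵁ V).ι = (ψ ⁻¹ᵁ (W.ι ⁻¹ᵁ V)).ι ≫ W'.ι := IsOpenImmersion.lift_fac _ _ _
  have hcomm : (ψ ∣_ (W.ι ⁻¹ᵁ V)) ≫ a = b ≫ (φ ∣_ V) := by
    rw [← cancel_mono V.ι, Category.assoc, Category.assoc, morphismRestrict_ι, morphismRestrict_ι,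
      ← Category.assoc, morphismRestrict_ι, Category.assoc, Scheme.Hom.resLE_comp_ι, ← Category.assoc,
      ← hb, Category.assoc]
  have ht : PicF.pullCl W'.ι (PicF.cl M') = 1 := by
    rw [← X'.homOfLE_ι hleO, PicLoc.pullCl_comp]
    have h1 : PicF.pullCl O.ι (PicF.cl M') = 1 := by
      rw [H23.PicMul.one_def]
      exact H23.PicMul.cl_eq_iff.2 ⟨((Scheme.Modules.restrictFunctorIsoPullback O.ι).app M').symm ≪≫ t⟩
    rw [h1, H23.PicMul.pullCl_one]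
  have htriv : H23.TrivBasic.Triv ((Scheme.Modules.pullback (ψ ∣_ (W.ι ⁻¹ᵁ V))).obj La) := by
    refine H23.PicMul.cl_eq_iff.1 ?_
    show PicF.pullCl (ψ ∣_ (W.ι ⁻¹ᵁ V)) (PicF.pullCl a (PicF.cl L)) = _
    rw [← PicLoc.pullCl_comp, hcomm, PicLoc.pullCl_comp,
      show PicF.pullCl (φ ∣_ V) (PicF.cl L) = PicF.pullCl (φ ⁻¹ᵁ V).ι (PicF.cl M') from
        (H23.PicMul.cl_eq_iff.2 ⟨e⟩).symm,
      ← PicLoc.pullCl_comp, hb, PicLoc.pullCl_comp, ht, H23.PicMul.pullCl_one]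
    exact H23.PicMul.one_def
  obtain ⟨W1, hW1, n, hn⟩ := exists_generator ψ (W.ι ⁻¹ᵁ V) hbij La (PicClLib.isInvertible_pullback a hL) htriv
    ⟨x', hxW'⟩
  have hn' := isFrame_of_restrict a (hn.map_iso ((Scheme.Modules.restrictFunctorIsoPullback a).app L).symm)
  have hx1 : φ x' ∈ W.ι ''ᵁ W1 := ⟨ψ ⟨x', hxW'⟩, hW1, congr($(Scheme.Hom.resLE_comp_ι φ hle) ⟨x', hxW'⟩)⟩
  have heq : V.ι ⁻¹ᵁ (W.ι ''ᵁ W1) ≤ a ''ᵁ ((W.ι ⁻¹ᵁ V).ι ⁻¹ᵁ W1) := by
    rintro z ⟨w, hw, hwz⟩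
    refine ⟨⟨w, show W.ι w ∈ V from hwz.symm ▸ z.2⟩, hw, Subtype.ext ?_⟩
    exact (congr($(morphismRestrict_ι W.ι V) ⟨w, show W.ι w ∈ V from hwz.symm ▸ z.2⟩)).trans hwz
  exact ⟨W.ι ''ᵁ W1, hx1, _, hn'.res heq⟩

include hV in
theorem extends_of_flat_surjective {X' : Scheme.{u}} (φ : X' ⟶ X) [Flat φ] [Surjective φ]
    {L : V.toScheme.Modules} (hL : PicF.IsInvertible L) {M' : X'.Modules} (hM' : PicF.IsInvertible M')
    (e : (Scheme.Modules.pullback (φ ⁻¹ᵁ V).ι).obj M' ≅ (Scheme.Modules.pullback (φ ∣_ V)).obj L) :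
    ∃ M : X.Modules, PicF.IsInvertible M ∧ Nonempty ((Scheme.Modules.pullback V.ι).obj M ≅ L) :=
  extends_of_flat V hV hL fun x _ => by
    obtain ⟨x', hx'⟩ := φ.surjective x
    exact ⟨X', φ, ‹_›, x', hx', M', hM', ⟨e⟩⟩

end Groth.Agent.InvExtFlat
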