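import Groth.Agent.QCoh.FlatBC
import Groth.Agent.InvX.Pullback

/-!
# Flat base change for sections over quasi-compact quasi-separated schemes
-/

set_option autoImplicit false
set_option backward.isDefEq.respectTransparency false
set_option backward.isDefEq.respectTransparency.types false
set_option linter.style.haveILetI false

universe u

open CategoryTheory CategoryTheory.Limits AlgebraicGeometry TopologicalSpace Opposite
open scoped TensorProduct

namespace Groth.Agent.InvExtFlat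

open Groth.Agent Groth.Agent.QCoh

/-- A quasi-isomorphism in degree zero is bijective on zero-cycles. -/
theorem exists_unique_cycle {R : Type u} [CommRing R] {K L : CochainComplex (ModuleCat.{u} R) ℕ} (f : K ⟶ L)
    [QuasiIsoAt f 0] :
    (∀ z, K.d 0 1 z = 0 → f.f 0 z = 0 → z = 0) ∧ ∀ y, L.d 0 1 y = 0 → ∃ z, K.d 0 1 z = 0 ∧ f.f 0 z = y := by
  haveI := K.isIso_homologyπ 0 0 (by simp) (K.shape 0 0 (by simp))
  haveI := L.isIso_homologyπ 0 0 (by simp) (L.shape 0 0 (by simp))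
  haveI : IsIso (HomologicalComplex.homologyMap f 0) := (quasiIsoAt_iff_isIso_homologyMap f 0).1 inferInstance
  haveI : IsIso (HomologicalComplex.cyclesMap f 0) := by
    rw [show HomologicalComplex.cyclesMap f 0 = K.homologyπ 0 ≫ HomologicalComplex.homologyMap f 0 ≫ inv (L.homologyπ 0) from by
      simp]
    infer_instance
  have hb := (ConcreteCategory.isIso_iff_bijective (HomologicalComplex.cyclesMap f 0)).1 inferInstance
  have hn : ∀ c, L.iCycles 0 (HomologicalComplex.cyclesMap f 0 c) = f.f 0 (K.iCycles 0 c) := fun c =>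
    congr($(HomologicalComplex.cyclesMap_i f 0) c)
  have hmk : ∀ (K : CochainComplex (ModuleCat.{u} R) ℕ) z, K.d 0 1 z = 0 → ∃ c, K.iCycles 0 c = z := fun K z hz =>
    have h0 : ModuleCat.ofHom (LinearMap.toSpanSingleton R (K.X 0) z) ≫ K.d 0 1 = 0 :=
      ModuleCat.hom_ext (LinearMap.ext_ring (by simpa using hz))
    ⟨K.liftCycles (ModuleCat.ofHom (LinearMap.toSpanSingleton R (K.X 0) z)) 1 (by simp) h0 (1 : R),
      (congr($(K.liftCycles_i (ModuleCat.ofHom (LinearMap.toSpanSingleton R (K.X 0) z)) 1 (by simp) h0) (1 : R))).trans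
        (by simp)⟩
  refine ⟨fun z hz h => ?_, fun y hy => ?_⟩
  · obtain ⟨c, rfl⟩ := hmk K z hz
    have hi : Function.Injective (L.iCycles 0) := (ModuleCat.mono_iff_injective _).1 inferInstance
    have : HomologicalComplex.cyclesMap f 0 c = 0 := hi ((hn c).trans (h.trans (map_zero _).symm))
    rw [hb.1 (this.trans (map_zero _).symm), map_zero]
  · obtain ⟨c', rfl⟩ := hmk L y hy
    obtain ⟨c, rfl⟩ := hb.2 c'
    exact ⟨K.iCycles 0 c, congr($(K.iCycles_d 0 1) c), (hn c).symm⟩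

variable {X X' : Scheme.{u}} (φ : X' ⟶ X) {A B : Type u} [CommRing A] [CommRing B] [Algebra A B]
  (ρ : A →+* Coh.Γtop X) (ρ' : B →+* Coh.Γtop X') (hρ : ∀ a, ρ' (algebraMap A B a) = φ.appTop (ρ a))
  {M : X.Modules} {M' : X'.Modules} (η : M ⟶ (Scheme.Modules.pushforward φ).obj M')
  [Module.Flat A B] [IsAffineHom φ] (hM : Coh.IsQCoh M) (hM' : Coh.IsQCoh M')
  (hbc : IsAffineBC φ ρ ρ' hρ η)

include hM hM' hbc in
/-- Global sections commute with flat base change. -/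
theorem isBaseChange_top [CompactSpace X] [QuasiSeparatedSpace X] :
    letI := secModule ρ M ⊤
    letI := secModule ρ' M' (φ ⁻¹ᵁ ⊤)
    letI := secModule (ρ'.comp (algebraMap A B)) M' (φ ⁻¹ᵁ ⊤)
    haveI : IsScalarTower A B Γ(M', φ ⁻¹ᵁ ⊤) := .of_algebraMap_smul fun _ _ => rfl
    IsBaseChange B (secLin ρ ρ' φ η hρ ⊤ (φ ⁻¹ᵁ ⊤) le_rfl) := by
  obtain ⟨s, hs, hcov⟩ := isCompact_iff_finite_and_eq_biUnion_affineOpens.mp
    (show IsCompact ((⊤ : X.Opens) : Set X) from isCompact_univ)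
  let U : Fin hs.toFinset.card → X.Opens := fun i => (hs.toFinset.equivFin.symm i).1.1
  have hU : (⨆ i, U i) = ⊤ := by
    rw [hcov]
    refine le_antisymm (iSup_le fun i => ?_) (iSup₂_le fun W hW => ?_)
    · exact le_iSup₂ (f := fun (W : X.affineOpens) (_ : W ∈ s) => W.1) _
        (hs.mem_toFinset.1 (hs.toFinset.equivFin.symm i).2)
    · refine le_trans ?_ (le_iSup U (hs.toFinset.equivFin ⟨W, hs.mem_toFinset.2 hW⟩))
      simp [U]
  have hq : QuasiIso (godPsi ρ M φ η ρ' hρ ⊤) := by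
    rw [← hU]
    exact quasiIso_godPsi_qc φ ρ ρ' hρ η hM hM' hbc _ U fun i => (hs.toFinset.equivFin.symm i).1.2
  obtain ⟨hinj, hsurj⟩ := exists_unique_cycle (godPsi ρ M φ η ρ' hρ ⊤)
  letI := secModule ρ M ⊤
  letI := secModule ρ' M' (φ ⁻¹ᵁ ⊤)
  letI := secModule (ρ'.comp (algebraMap A B)) M' (φ ⁻¹ᵁ ⊤)
  haveI : IsScalarTower A B Γ(M', φ ⁻¹ᵁ ⊤) := .of_algebraMap_smul fun _ _ => rfl
  letI := secModule ρ (God (godQ M 0)) ⊤
  letI := secModule ρ' (God (godQ M' 0)) (φ ⁻¹ᵁ ⊤)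
  let a₀ : ModuleCat.of A Γ(M, (⊤ : X.Opens)) ⟶ (godCx ρ ⊤ M).X 0 := ModuleCat.ofHom (godAug ρ ⊤ M)
  let a' : ModuleCat.of B Γ(M', φ ⁻¹ᵁ ⊤) ⟶ (godCx ρ' (φ ⁻¹ᵁ ⊤) M').X 0 := ModuleCat.ofHom (godAug ρ' (φ ⁻¹ᵁ ⊤) M')
  have hexact : Function.Exact a₀.hom ((godCx ρ ⊤ M).d 0 1).hom := fun y =>
    ⟨fun hy => (godAug_bijective ρ ⊤ M).2 y hy, by rintro ⟨x, rfl⟩; exact godAug_d ρ ⊤ M x⟩
  let l := secLin ρ ρ' φ η hρ ⊤ (φ ⁻¹ᵁ ⊤) le_rfl
  let g : B ⊗[A] Γ(M, (⊤ : X.Opens)) →ₗ[B] Γ(M', φ ⁻¹ᵁ ⊤) := (TensorProduct.isBaseChange A Γ(M, (⊤ : X.Opens)) B).lift l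
  have hg : ∀ (b : B) (m : Γ(M, (⊤ : X.Opens))), g (b ⊗ₜ m) = b • l m := fun b m => by
    rw [show (b ⊗ₜ[A] m : B ⊗[A] Γ(M, (⊤ : X.Opens))) = b • ((1 : B) ⊗ₜ m) by simp [TensorProduct.smul_tmul'], map_smul]
    exact congrArg (b • ·) ((TensorProduct.isBaseChange A Γ(M, (⊤ : X.Opens)) B).lift_eq l m)
  have key : ∀ z : B ⊗[A] Γ(M, (⊤ : X.Opens)),
      (godPsi ρ M φ η ρ' hρ ⊤).f 0 (a₀.hom.lTensor B z) = a'.hom (g z) := by
    intro z
    induction z using TensorProduct.induction_on with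
    | zero => simp only [map_zero]
    | add a b ha hb => simp only [map_add]; refine Eq.trans ?_ (congrArg₂ (· + ·) ha hb); rfl
    | tmul b m =>
      show (adjunct ((godCxMap φ η ρ ρ' hρ le_rfl).f 0)).hom (TensorProduct.tmul A b (a₀.hom m)) = _
      rw [hg]
      refine (adjunct_tmul _ b _).trans (Eq.trans ?_ (a'.hom.map_smul b _).symm)
      exact congrArg (b • ·) (godCxMap_aug φ η ρ ρ' hρ le_rfl m)
  refine IsBaseChange.of_equiv (LinearEquiv.ofBijective g ⟨?_, fun y => ?_⟩) fun m => ?_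
  · refine (injective_iff_map_eq_zero g).2 fun z hz => ?_
    refine Module.Flat.lTensor_preserves_injective_linearMap (M := B) a₀.hom (godAug_bijective ρ ⊤ M).1 ?_
    rw [map_zero]
    exact hinj _ ((Module.Flat.lTensor_exact B hexact _).2 ⟨z, rfl⟩) ((key z).trans (by rw [hz, map_zero]))
  · obtain ⟨w, hw, hwy⟩ := hsurj (a'.hom y) (godAug_d ρ' (φ ⁻¹ᵁ ⊤) M' y)
    obtain ⟨z, rfl⟩ := (Module.Flat.lTensor_exact B hexact w).1 hw
    exact ⟨z, (godAug_bijective ρ' (φ ⁻¹ᵁ ⊤) M').1 ((key z).symm.trans hwy)⟩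
  · rw [LinearEquiv.ofBijective_apply, hg, one_smul]

end Groth.Agent.InvExtFlat
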