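import Groth.Agent.InvExtFlat.SecBC
import Groth.Agent.InvX.GenLocusPull
import Groth.Agent.H23.TrivBasic
import Groth.Agent.PnCoh.Unit
import Groth.Agent.QCoh.LocFree
import Groth.Agent.H23.PicMul

/-!
# Generators of sections descending along a flat map of affine schemes
-/

set_option autoImplicit false
set_option backward.isDefEq.respectTransparency false
set_option backward.isDefEq.respectTransparency.types false
set_option linter.style.haveILetI false
set_option maxHeartbeats 1000000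

universe u

open CategoryTheory CategoryTheory.Limits AlgebraicGeometry TopologicalSpace Opposite

namespace Groth.Agent.InvExtFlat

open Groth.Agent Groth.Agent.InvX

/-- A locally closed subset of a Noetherian space has a point specializing to each point of its closure. -/
theorem exists_specializes_of_mem_closure {α : Type*} [TopologicalSpace α] [NoetherianSpace α] [QuasiSober α]
    {V Z : Set α} (hV : IsOpen V) (hZ : IsClosed Z) {x : α} (hx : x ∈ closure (V ∩ Z)) :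
    ∃ y ∈ V ∩ Z, y ⤳ x := by
  obtain ⟨S, hSf, hSc, hSi, hSU⟩ := NoetherianSpace.exists_finite_set_isClosed_irreducible
    (isClosed_closure (s := V ∩ Z))
  let S' := {t ∈ S | (t ∩ (V ∩ Z)).Nonempty}
  have hS'f : S'.Finite := hSf.subset fun t ht => ht.1
  have hsub : closure (V ∩ Z) ⊆ ⋃₀ S' := by
    refine closure_minimal (fun a ha => ?_) (by rw [Set.sUnion_eq_biUnion]; exact Set.Finite.isClosed_biUnion hS'f fun t ht => hSc t ht.1)
    obtain ⟨t, ht, hat⟩ := hSU.subset (subset_closure ha)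
    exact ⟨t, ⟨ht, a, hat, ha⟩, hat⟩
  obtain ⟨t, ⟨ht, a, hat, ha⟩, hxt⟩ := hsub hx
  obtain ⟨η, hη⟩ := QuasiSober.sober (hSi t ht) (hSc t ht)
  refine ⟨η, ⟨(hη.specializes hat).mem_open hV ha.1, ?_⟩, hη.specializes hxt⟩
  have h1 : η ∈ closure (V ∩ Z) := hSU.symm.subset ⟨t, ht, hη.mem⟩
  exact closure_minimal Set.inter_subset_right hZ h1

theorem toGlobal_isoSpec {U X : Scheme.{u}} [IsAffine X] (j : U ⟶ X) (a : Γ(X, ⊤)) :
    Coh.toGlobal (j ≫ X.isoSpec.hom) (show (CommRingCat.of Γ(X, ⊤) : Type u) from a) = j.appTop a := by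
  show j.appTop (X.isoSpec.hom.appTop ((Scheme.ΓSpecIso (CommRingCat.of Γ(X, ⊤))).inv a)) = _
  rw [Scheme.isoSpec_hom, Scheme.toSpecΓ_appTop]
  exact congrArg j.appTop (congr($((Scheme.ΓSpecIso Γ(X, ⊤)).inv_hom_id) a))

variable {X X' : Scheme.{u}} [IsAffine X] [IsAffine X'] [IsNoetherian X] (ψ : X' ⟶ X) [Flat ψ] (V : X.Opens)
  (hbij : Function.Bijective V.ι.appTop) (L : V.toScheme.Modules) (hL : PicF.IsInvertible L)
  (htriv : H23.TrivBasic.Triv ((Scheme.Modules.pullback (ψ ∣_ V)).obj L)) (x' : X')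

include hbij hL htriv in
/-- A module trivial after a flat pullback has a generator near each point in the image. -/
theorem exists_generator :
    ∃ W : X.Opens, ψ x' ∈ W ∧ ∃ e : Γ(L, V.ι ⁻¹ᵁ W), IsFrame e := by
  letI : Algebra Γ(X, ⊤) Γ(X', ⊤) := ψ.appTop.hom.toAlgebra
  haveI : Module.Flat Γ(X, ⊤) Γ(X', ⊤) :=
    HasRingHomProperty.appTop (P := @Flat) ψ ‹_›
  haveI : QuasiCompact V.ι := inferInstance
  haveI : CompactSpace V.toScheme := QuasiCompact.compactSpace_of_compactSpace V.ι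
  let g := ψ ∣_ V
  let j := (ψ ⁻¹ᵁ V).ι
  let pA : V.toScheme ⟶ Spec (CommRingCat.of Γ(X, ⊤)) := V.ι ≫ X.isoSpec.hom
  let pB : (ψ ⁻¹ᵁ V).toScheme ⟶ Spec (CommRingCat.of Γ(X', ⊤)) := j ≫ X'.isoSpec.hom
  have hpb : IsPullback g pB pA (Spec.map (CommRingCat.ofHom (algebraMap Γ(X, ⊤) Γ(X', ⊤)))) := by
    refine (isPullback_morphismRestrict ψ V).paste_vert (IsPullback.of_vert_isIso ⟨?_⟩)
    exact (Scheme.isoSpec_hom_naturality ψ).symm
  have haff : IsAffineHom g := MorphismProperty.of_isPullback hpb.flip inferInstance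
  let ρ := Coh.toGlobal pA
  let ρ' := Coh.toGlobal pB
  have hρA : ∀ a, ρ a = V.ι.appTop a := fun a => toGlobal_isoSpec V.ι a
  have hρB : ∀ b, ρ' b = j.appTop b := fun b => toGlobal_isoSpec j b
  have hρg : ∀ a, ρ' (algebraMap Γ(X, ⊤) Γ(X', ⊤) a) = g.appTop (ρ a) := QCoh.toGlobal_comm pA pB g hpb.w
  haveI hqO : Coh.IsQCoh (Coh.structureModule V.toScheme) := PnCoh.isQCoh_structureModule _
  haveI hqL : Coh.IsQCoh L := QCoh.isQCoh_of_isFinLocFree (H23.PullPush.isFinLocFree_of_isInvertible hL)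
  -- surjectivity and injectivity of `B → Γ(V', O)`
  let one₀ : Γ(Coh.structureModule V.toScheme, ⊤) := (1 : Γ(V.toScheme, ⊤))
  let p := pullElt g one₀
  have hp : IsFrame p := isFrame_pullElt g (isFrame_one ⊤)
  have hO := isBaseChange_top g ρ ρ' hρg (M := Coh.structureModule V.toScheme)
    (M' := (Scheme.Modules.pullback g).obj (Coh.structureModule V.toScheme))
    ((Scheme.Modules.pullbackPushforwardAdjunction g).unit.app _) hqO (QCoh.isQCoh_pullback g hqO)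
    (QCoh.isAffineBC_of_isPullback hpb hqO)
  letI := QCoh.secModule ρ (Coh.structureModule V.toScheme) ⊤
  letI := QCoh.secModule ρ' ((Scheme.Modules.pullback g).obj (Coh.structureModule V.toScheme)) (g ⁻¹ᵁ ⊤)
  letI := QCoh.secModule (ρ'.comp (algebraMap Γ(X, ⊤) Γ(X', ⊤)))
    ((Scheme.Modules.pullback g).obj (Coh.structureModule V.toScheme)) (g ⁻¹ᵁ ⊤)
  haveI : IsScalarTower Γ(X, ⊤) Γ(X', ⊤) Γ((Scheme.Modules.pullback g).obj (Coh.structureModule V.toScheme), g ⁻¹ᵁ ⊤) :=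
    .of_algebraMap_smul fun _ _ => rfl
  have hsmul : ∀ (b : Γ(X', ⊤)) (y : Γ((Scheme.Modules.pullback g).obj (Coh.structureModule V.toScheme), g ⁻¹ᵁ ⊤)),
      b • y = (show Γ((ψ ⁻¹ᵁ V).toScheme, g ⁻¹ᵁ ⊤) from j.appTop b) • y := fun b y => by
    rw [← hρB]
    show (show Γ((ψ ⁻¹ᵁ V).toScheme, g ⁻¹ᵁ ⊤) from
      (ψ ⁻¹ᵁ V).toScheme.presheaf.map (homOfLE (le_top : g ⁻¹ᵁ (⊤ : V.toScheme.Opens) ≤ ⊤)).op (ρ' b)) • y = _
    congr 1
    exact ConcreteCategory.congr_hom ((ψ ⁻¹ᵁ V).toScheme.presheaf.map_id _) (ρ' b)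
  let l₀ : Γ(X, ⊤) →ₗ[Γ(X, ⊤)] Γ(Coh.structureModule V.toScheme, (⊤ : V.toScheme.Opens)) :=
    LinearMap.toSpanSingleton _ _ one₀
  have hl₀ : ∀ a, l₀ a = V.ι.appTop a := fun a => by
    show (V.toScheme.presheaf.map (homOfLE (le_top : (⊤ : V.toScheme.Opens) ≤ ⊤)).op (ρ a)) * (1 : Γ(V.toScheme, ⊤)) = _
    rw [mul_one, hρA]
    exact ConcreteCategory.congr_hom (V.toScheme.presheaf.map_id _) _
  have hl₀b : Function.Bijective l₀ := by
    rw [show (l₀ : Γ(X, ⊤) → _) = V.ι.appTop from funext hl₀]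
    exact hbij
  let lO := QCoh.secLin ρ ρ' g ((Scheme.Modules.pullbackPushforwardAdjunction g).unit.app
    (Coh.structureModule V.toScheme)) hρg ⊤ (g ⁻¹ᵁ ⊤) le_rfl
  have hlO : lO one₀ = p := AModX.res_self _
  have hBC : Function.Bijective fun b : Γ(X', ⊤) => b • p := by
    have h1 : ∀ b : Γ(X', ⊤), hO.equiv (TensorProduct.tmul Γ(X, ⊤) b one₀) = b • p := fun b => by
      rw [IsBaseChange.equiv_tmul]
      exact congrArg (b • ·) hlO
    have h2 : Function.Bijective fun b : Γ(X', ⊤) => TensorProduct.tmul Γ(X, ⊤) b one₀ := by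
      have : (fun b : Γ(X', ⊤) => TensorProduct.tmul Γ(X, ⊤) b one₀) =
          ((TensorProduct.rid Γ(X, ⊤) Γ(X', ⊤)).symm.trans
            (LinearEquiv.lTensor Γ(X', ⊤) (LinearEquiv.ofBijective l₀ hl₀b))) := funext fun b => by
        rw [LinearEquiv.trans_apply, TensorProduct.rid_symm_apply, LinearEquiv.lTensor_tmul,
          LinearEquiv.ofBijective_apply]
        exact congrArg _ (LinearMap.toSpanSingleton_apply_one _ _ _).symm
      rw [this]
      exact LinearEquiv.bijective _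
    rw [show (fun b : Γ(X', ⊤) => b • p) = hO.equiv ∘ fun b => TensorProduct.tmul Γ(X, ⊤) b one₀ from
      funext fun b => (h1 b).symm]
    exact hO.equiv.bijective.comp h2
  have hj : Function.Bijective j.appTop := by
    have e : (fun b : Γ(X', ⊤) => b • p) = (fun c : Γ((ψ ⁻¹ᵁ V).toScheme, g ⁻¹ᵁ ⊤) =>
        c • AModX.res _ (le_refl _) p) ∘ (fun b => j.appTop b) := funext fun b => by
      rw [Function.comp_apply, AModX.res_self]
      exact hsmul b p
    rw [e] at hBC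
    exact (Function.Bijective.of_comp_iff' (hp _ le_rfl) _).1 hBC
  -- the trivialization
  obtain ⟨φ⟩ := htriv
  let τ : Γ((Scheme.Modules.pullback g).obj L, g ⁻¹ᵁ ⊤) :=
    φ.inv.app ⊤ (show Γ(Coh.structureModule _, ⊤) from (1 : Γ((ψ ⁻¹ᵁ V).toScheme, ⊤)))
  have hτ : IsFrame τ := (isFrame_one ⊤).map_iso φ.symm
  have hC : ∀ n : Γ(L, (⊤ : V.toScheme.Opens)), ∃ C : Γ(X', ⊤),
      pullElt g n = (show Γ((ψ ⁻¹ᵁ V).toScheme, g ⁻¹ᵁ ⊤) from j.appTop C) • τ := fun n => by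
    obtain ⟨c, hc⟩ := hτ.exists_coord le_rfl (pullElt g n)
    obtain ⟨C, rfl⟩ := hj.2 c
    exact ⟨C, hc.trans (congrArg _ (AModX.res_self τ))⟩
  choose C hC using hC
  have hLb := isBaseChange_top g ρ ρ' hρg (M := L) (M' := (Scheme.Modules.pullback g).obj L)
    ((Scheme.Modules.pullbackPushforwardAdjunction g).unit.app _) hqL (QCoh.isQCoh_pullback g hqL)
    (QCoh.isAffineBC_of_isPullback hpb hqL)
  letI := QCoh.secModule ρ L ⊤
  letI := QCoh.secModule ρ' ((Scheme.Modules.pullback g).obj L) (g ⁻¹ᵁ ⊤)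
  letI := QCoh.secModule (ρ'.comp (algebraMap Γ(X, ⊤) Γ(X', ⊤))) ((Scheme.Modules.pullback g).obj L) (g ⁻¹ᵁ ⊤)
  haveI : IsScalarTower Γ(X, ⊤) Γ(X', ⊤) Γ((Scheme.Modules.pullback g).obj L, g ⁻¹ᵁ ⊤) :=
    .of_algebraMap_smul fun _ _ => rfl
  have hsm : ∀ (b : Γ(X', ⊤)) (y : Γ((Scheme.Modules.pullback g).obj L, g ⁻¹ᵁ ⊤)),
      b • y = (show Γ((ψ ⁻¹ᵁ V).toScheme, g ⁻¹ᵁ ⊤) from j.appTop b) • y := fun b y => by
    rw [← hρB]
    show (show Γ((ψ ⁻¹ᵁ V).toScheme, g ⁻¹ᵁ ⊤) from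
      (ψ ⁻¹ᵁ V).toScheme.presheaf.map (homOfLE (le_top : g ⁻¹ᵁ (⊤ : V.toScheme.Opens) ≤ ⊤)).op (ρ' b)) • y = _
    congr 1
    exact ConcreteCategory.congr_hom ((ψ ⁻¹ᵁ V).toScheme.presheaf.map_id _) (ρ' b)
  have hone : (1 : Γ(X', ⊤)) ∈ Ideal.span (Set.range C) := by
    obtain ⟨z, hz⟩ := hLb.equiv.surjective τ
    have key : ∀ z, ∃ c ∈ Ideal.span (Set.range C), hLb.equiv z = c • τ := fun z => by
      induction z using TensorProduct.induction_on with
      | zero => exact ⟨0, zero_mem _, by rw [map_zero, zero_smul]⟩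
      | add a b ha hb =>
        obtain ⟨c, hc, hca⟩ := ha
        obtain ⟨d, hd, hdb⟩ := hb
        exact ⟨c + d, add_mem hc hd, by rw [map_add, hca, hdb, add_smul]⟩
      | tmul b n =>
        refine ⟨b * C n, Ideal.mul_mem_left _ _ (Ideal.subset_span ⟨n, rfl⟩), ?_⟩
        rw [IsBaseChange.equiv_tmul, mul_smul]
        exact congrArg (b • ·) ((AModX.res_self _).trans ((hC n).trans (hsm _ _).symm))
    obtain ⟨c, hc, hcτ⟩ := key z
    rw [hz, hsm] at hcτ
    have h1 : (1 : Γ((ψ ⁻¹ᵁ V).toScheme, g ⁻¹ᵁ ⊤)) = j.appTop c :=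
      hτ.coord_unique le_rfl (by rw [AModX.res_self, one_smul]; exact hcτ)
    rwa [show c = 1 from hj.1 (h1.symm.trans (map_one _).symm)] at hc
  obtain ⟨n, hn⟩ : ∃ n, x' ∈ X'.basicOpen (C n) := by
    by_contra h
    push Not at h
    have hle : Ideal.span (Set.range C) ≤
        (IsLocalRing.maximalIdeal (X'.presheaf.stalk x')).comap (X'.presheaf.germ ⊤ x' trivial).hom := by
      refine Ideal.span_le.2 ?_
      rintro _ ⟨n, rfl⟩
      exact (IsLocalRing.mem_maximalIdeal _).2 fun hu => h n ((X'.mem_basicOpen (C n) x' (U := ⊤) trivial).2 hu)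
    have := hle hone
    rw [Ideal.mem_comap, map_one] at this
    exact (IsLocalRing.mem_maximalIdeal _).1 this isUnit_one
  -- the pulled back section generates over the basic open
  have hD : IsFrame (AModX.res _ ((ψ ⁻¹ᵁ V).toScheme.basicOpen_le (show Γ((ψ ⁻¹ᵁ V).toScheme, g ⁻¹ᵁ ⊤) from j.appTop (C n)))
      (pullElt g n)) := by
    rw [hC n, AModX.res_smul]
    exact (hτ.res _).isUnit_smul (RingedSpace.isUnit_res_basicOpen (ψ ⁻¹ᵁ V).toScheme.toRingedSpace _)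
  -- the locus where the section generates
  let G : V.toScheme.Opens := sSup {O | IsFrame (AModX.res L (le_top : O ≤ ⊤) n)}
  have hG : ∀ v : V.toScheme, V.ι v ⤳ ψ x' → v ∈ G := fun v hv => by
    obtain ⟨y, hyx, hy⟩ := Flat.generalizingMap ψ hv
    have hyV : y ∈ ψ ⁻¹ᵁ V := (show ψ y ∈ V from hy.symm ▸ v.2)
    let v' : (ψ ⁻¹ᵁ V).toScheme := ⟨y, hyV⟩
    have hgv : g v' = v := Subtype.ext ((congr($(morphismRestrict_ι ψ V) v')).trans hy)
    have hv'D : v' ∈ (ψ ⁻¹ᵁ V).toScheme.basicOpen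
        (show Γ((ψ ⁻¹ᵁ V).toScheme, g ⁻¹ᵁ ⊤) from j.appTop (C n)) := by
      have h2 : v' ∈ j ⁻¹ᵁ X'.basicOpen (C n) := hyx.mem_open (X'.basicOpen (C n)).2 hn
      rw [Scheme.preimage_basicOpen] at h2
      exact h2
    obtain ⟨O, hvO, ε, hε⟩ := exists_frame hL v
    obtain ⟨g₀, hg₀⟩ := hε.exists_coord le_rfl (AModX.res L (le_top : O ≤ ⊤) n)
    rw [AModX.res_self] at hg₀
    let D := (ψ ⁻¹ᵁ V).toScheme.basicOpen (show Γ((ψ ⁻¹ᵁ V).toScheme, g ⁻¹ᵁ ⊤) from j.appTop (C n))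
    let P := D ⊓ g ⁻¹ᵁ O
    have hP : P ≤ g ⁻¹ᵁ O := inf_le_right
    have h1 := congrArg (AModX.res _ hP) (congrArg (pullElt g) hg₀)
    rw [pullElt_smul, ← res_pullElt, AModX.res_res, AModX.res_smul] at h1
    have hn' : IsFrame (AModX.res _ (hP.trans (g.preimage_mono (le_top : O ≤ ⊤))) (pullElt g n)) := by
      have := hD.res (inf_le_left : P ≤ D)
      rwa [AModX.res_res] at this
    obtain ⟨r, hr⟩ := hn'.exists_coord le_rfl (AModX.res _ hP (pullElt g ε))
    rw [AModX.res_self] at hr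
    have hu : IsUnit (AModX.resR hP (g.app O g₀)) := by
      refine IsUnit.of_mul_eq_one r (((isFrame_pullElt g hε).res hP).coord_unique le_rfl ?_)
      rw [AModX.res_self, one_smul, mul_comm, mul_smul, ← h1]
      exact hr.symm
    have hmem : v' ∈ (ψ ⁻¹ᵁ V).toScheme.basicOpen (g.app O g₀) := by
      have h3 : P = P ⊓ (ψ ⁻¹ᵁ V).toScheme.basicOpen (g.app O g₀) :=
        ((ψ ⁻¹ᵁ V).toScheme.basicOpen_of_isUnit hu).symm.trans
          ((ψ ⁻¹ᵁ V).toScheme.basicOpen_res (g.app O g₀) (homOfLE hP).op)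
      have h4 : v' ∈ P := ⟨hv'D, show g v' ∈ O from hgv.symm ▸ hvO⟩
      rw [h3] at h4
      exact h4.2
    rw [← Scheme.preimage_basicOpen] at hmem
    refine Opens.mem_sSup.2 ⟨V.toScheme.basicOpen g₀, ?_, hgv ▸ hmem⟩
    have h5 := congrArg (AModX.res L (V.toScheme.basicOpen_le g₀)) hg₀
    rw [AModX.res_res, AModX.res_smul] at h5
    show IsFrame _
    rw [h5]
    exact (hε.res _).isUnit_smul (RingedSpace.isUnit_res_basicOpen V.toScheme.toRingedSpace _)
  let S : Set X := (V.ι : _ → _) '' ((G : Set V.toScheme)ᶜ)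
  let Z : Set X := closure S
  have hS : S = (V : Set X) ∩ Z := by
    refine Set.Subset.antisymm (fun a ha => ⟨?_, subset_closure ha⟩) fun a ⟨haV, haZ⟩ => ?_
    · obtain ⟨v, -, rfl⟩ := ha
      exact v.2
    · refine ⟨⟨a, haV⟩, ?_, rfl⟩
      have h6 : (⟨a, haV⟩ : V.toScheme) ∈ closure ((G : Set V.toScheme)ᶜ) := by
        rw [V.ι.isOpenEmbedding.isInducing.closure_eq_preimage_closure_image]
        exact haZ
      exact (G.2.isClosed_compl.closure_eq).subset h6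
  haveI : NoetherianSpace X := inferInstance
  have hx : ψ x' ∉ Z := fun hx => by
    obtain ⟨η, hη, hηx⟩ := exists_specializes_of_mem_closure V.2 (isClosed_closure (s := S))
      (show ψ x' ∈ closure ((V : Set X) ∩ Z) by rw [← hS]; exact hx)
    obtain ⟨v, hv, rfl⟩ := hS.ge hη
    exact hv (hG v hηx)
  refine ⟨⟨Zᶜ, isClosed_closure.isOpen_compl⟩, hx, AModX.res L le_top n, isFrame_of_germ fun v hv => ?_⟩
  have hvG : v ∈ G := by
    by_contra h
    exact hv (subset_closure ⟨v, h, rfl⟩)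
  obtain ⟨O, hO', hvO⟩ := Opens.mem_sSup.1 hvG
  have h7 := IsFrame.germ_bijective hO' hvO
  rw [germ_res'] at h7
  rw [germ_res']
  exact h7

end Groth.Agent.InvExtFlat
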